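import Mathlib
import Groth.Agent.H18Pur.Formal.Cech
import Groth.Agent.H18Pur.Formal.Loc

/-!
# Algebras determined by their points on an open cover
-/

set_option autoImplicit false

universe u

open TensorProduct

namespace Groth.Agent.H18Pur.Pair

open Groth.Agent.H18Pur.Formal

variable {A : Type u} [CommRing A]

/-- Sections glue uniquely along the opens `c ≠ 0`, `c ∈ T`. -/
structure Glues (T : Finset A) (R : Type u) [AddCommGroup R] [Module A R] : Prop where
  exists_glue : ∀ (K : ℕ) (z : A → R), (∀ c ∈ T, ∀ d ∈ T, d ^ K • z c = c ^ K • z d) → ∃ a, ∀ c ∈ T, c ^ K • a = z c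
  eq_zero : ∀ (K : ℕ) (p : R), (∀ c ∈ T, c ^ K • p = 0) → p = 0

theorem glues_of_sat {I : Ideal A} {T : Finset A} (hT : Ideal.span (T : Set A) = I) {R : Type u} [AddCommGroup R]
    [Module A R] {x : A} (h : Sat I R x) : Glues T R :=
  ⟨glue hT h, eq_zero_of_killed hT h⟩

/-- Saturation passes to flat algebras. -/
theorem sat_of_flat {I : Ideal A} {T : Finset A} (hT : Ideal.span (T : Set A) = I) {x : A} (h : Sat I A x)
    (R : Type u) [CommRing R] [Algebra A R] [Module.Flat A R] : Sat I R x := by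
  classical
  refine sat_of_sat_one h.mem (fun a b hab => (h.reg.of_flat (S := R)) (by
    show algebraMap A R x • a = algebraMap A R x • b
    rw [algebraMap_smul, algebraMap_smul]; exact hab)) fun z hz => ?_
  let N := A ⧸ Ideal.span {x}
  let f : N →ₗ[A] (T → N) := LinearMap.pi fun c => (c : A) • LinearMap.id
  have hf : Function.Injective f := by
    refine (injective_iff_map_eq_zero f).2 fun t ht => ?_
    obtain ⟨a, rfl⟩ := Ideal.Quotient.mk_surjective t
    refine Ideal.Quotient.eq_zero_iff_mem.2 (Ideal.mem_span_singleton'.2 ?_)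
    obtain ⟨w, hw⟩ := h.sat 1 a fun y hy => by
      rw [pow_one, ← hT] at hy
      induction hy using Submodule.span_induction with
      | mem c hc =>
        have h1 := congrFun ht ⟨c, hc⟩
        obtain ⟨w, hw⟩ := Ideal.mem_span_singleton'.1 (Ideal.Quotient.eq_zero_iff_mem.1 (show
          Ideal.Quotient.mk (Ideal.span {x}) (c * a) = 0 from h1))
        exact ⟨w, by rw [smul_eq_mul, smul_eq_mul, ← hw, mul_comm]⟩
      | zero => exact ⟨0, by simp⟩
      | add a b _ _ ha hb =>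
        obtain ⟨u, hu⟩ := ha
        obtain ⟨v, hv⟩ := hb
        exact ⟨u + v, by rw [add_smul, hu, hv, smul_add]⟩
      | smul t a _ ha =>
        obtain ⟨u, hu⟩ := ha
        exact ⟨t • u, by rw [smul_eq_mul t, mul_smul, hu, smul_comm]⟩
    exact ⟨w, by rw [hw, smul_eq_mul, mul_comm]⟩
  have hinj : Function.Injective (f.lTensor R) := Module.Flat.lTensor_preserves_injective_linearMap f hf
  have h0 : f.lTensor R (z ⊗ₜ[A] (Ideal.Quotient.mk (Ideal.span {x}) 1)) = 0 := by
    rw [LinearMap.lTensor_tmul, show f (Ideal.Quotient.mk (Ideal.span {x}) 1) =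
      ∑ c : T, (c : A) • Pi.single c (Ideal.Quotient.mk (Ideal.span {x}) 1) from funext fun c => by
        simp [f, Finset.sum_apply, Pi.single_apply, Finset.sum_ite_eq], TensorProduct.tmul_sum]
    refine Finset.sum_eq_zero fun c _ => ?_
    obtain ⟨w, hw⟩ := hz c (hT ▸ Ideal.subset_span c.2)
    rw [TensorProduct.tmul_smul, TensorProduct.smul_tmul', hw, TensorProduct.smul_tmul, ← Pi.single_smul,
      show x • Ideal.Quotient.mk (Ideal.span {x}) 1 = Ideal.Quotient.mk (Ideal.span {x}) (x * 1) from rfl,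
      mul_one, Ideal.Quotient.eq_zero_iff_mem.2 (Ideal.mem_span_singleton_self x), Pi.single_zero,
      TensorProduct.tmul_zero]
  rw [← map_zero (f.lTensor R)] at h0
  have h1 := congrArg (TensorProduct.tensorQuotEquivQuotSMul R (Ideal.span {x})) (hinj h0)
  rw [map_zero, TensorProduct.tensorQuotEquivQuotSMul_tmul_mk, one_smul, Submodule.Quotient.mk_eq_zero,
    Submodule.ideal_span_singleton_smul, Submodule.mem_smul_pointwise_iff_exists] at h1
  obtain ⟨w, -, hw⟩ := h1
  exact ⟨w, hw.symm⟩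

/-- Saturation over an algebra gives gluing over the base. -/
theorem glues_of_algebra {T : Finset A} {B : Type u} [CommRing B] [Algebra A B] {R : Type u} [AddCommGroup R]
    [Module A R] [Module B R] [IsScalarTower A B R] [DecidableEq B] (h : Glues (T.image (algebraMap A B)) R) :
    Glues T R := by
  classical
  have hmem : ∀ {c}, c ∈ T → algebraMap A B c ∈ T.image (algebraMap A B) := Finset.mem_image_of_mem _
  have hs : ∀ (c : A) (K : ℕ) (r : R), algebraMap A B c ^ K • r = c ^ K • r := fun c K r => by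
    rw [← map_pow, algebraMap_smul]
  refine ⟨fun K z hz => ?_, fun K p hp => h.eq_zero K p fun b hb => ?_⟩
  · have : ∀ b : B, ∃ c, b ∈ T.image (algebraMap A B) → c ∈ T ∧ algebraMap A B c = b := fun b => by
      by_cases hb : b ∈ T.image (algebraMap A B)
      · exact (Finset.mem_image.1 hb).imp fun c hc _ => hc
      · exact ⟨0, fun h => absurd h hb⟩
    choose σ hσ using this
    obtain ⟨a, ha⟩ := h.exists_glue K (fun b => z (σ b)) fun b hb d hd => by
      rw [← (hσ b hb).2, ← (hσ d hd).2, hs, hs, (hσ b hb).2, (hσ d hd).2]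
      exact hz _ (hσ b hb).1 _ (hσ d hd).1
    refine ⟨a, fun c hc => ?_⟩
    -- both sides agree on every member of the cover
    refine sub_eq_zero.1 (h.eq_zero K _ fun b hb => ?_)
    have h1 := ha b hb
    rw [← (hσ b hb).2, hs, (hσ b hb).2] at h1
    rw [← (hσ b hb).2, hs, smul_sub, smul_comm, h1, hz c hc _ (hσ b hb).1, sub_self]
  · obtain ⟨c, hc, rfl⟩ := Finset.mem_image.1 hb
    rw [hs, hp c hc]

/-- Algebras whose sections glue are determined by their points on the cover. -/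
theorem nonempty_algEquiv {T : Finset A} {R R' : Type u} [CommRing R] [Algebra A R] [CommRing R'] [Algebra A R']
    (hR : Glues T R) (hR' : Glues T R')
    (ε : ∀ (C : Type u) [CommRing C] [Algebra A C], (∃ c ∈ T, IsUnit (algebraMap A C c)) →
      (R →ₐ[A] C) ≃ (R' →ₐ[A] C))
    (hε : ∀ (C C' : Type u) [CommRing C] [Algebra A C] [CommRing C'] [Algebra A C'] (G : C →ₐ[A] C')
      (h : ∃ c ∈ T, IsUnit (algebraMap A C c)) (h' : ∃ c ∈ T, IsUnit (algebraMap A C' c)) (g : R →ₐ[A] C),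
      ε C' h' (G.comp g) = G.comp (ε C h g)) :
    Nonempty (R' ≃ₐ[A] R) := by
  classical
  let Θ : PtMap (⊥ : Ideal A) T R R' :=
    ⟨fun C _ _ _ h g => ε C h g, fun C C' _ _ _ _ G _ h _ h' g => hε C C' G h h' g⟩
  let Ψ : PtMap (⊥ : Ideal A) T R' R :=
    ⟨fun C _ _ _ h g => (ε C h).symm g, fun C C' _ _ _ _ G _ h _ h' g => (ε C' h').injective (by
      rw [hε C C' G h h', Equiv.apply_symm_apply, Equiv.apply_symm_apply])⟩
  have mk : ∀ {R R' : Type u} [CommRing R] [Algebra A R] [CommRing R'] [Algebra A R'], Glues T R →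
      ∀ (Θ : PtMap (⊥ : Ideal A) T R R'), ∃ α : R' →ₐ[A] R,
        ∀ c, ∀ hc : c ∈ T, (toLoc ⊥ R 1 c).comp α = Θ.val 1 hc := by
    intro R R' _ _ _ _ hR Θ
    have hzero : ∀ y : R, y ∈ (⊥ : Ideal A) ^ 1 • (⊤ : Submodule A R) → y = 0 := fun y hy => by simpa using hy
    have hinj : ∀ x y : R, (∀ c, c ∈ T → toLoc ⊥ R 1 c x = toLoc ⊥ R 1 c y) → x = y := fun x y h => by
      have : ∀ c, ∃ L : ℕ, c ∈ T → c ^ L • (x - y) = 0 := fun c => by
        by_cases hc : c ∈ T
        · exact (loc_eq_iff.1 (h c hc)).imp fun L hL _ => hzero _ hL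
        · exact ⟨0, fun h => absurd h hc⟩
      choose L hL using this
      refine sub_eq_zero.1 (hR.eq_zero (T.sum L) _ fun c hc => ?_)
      obtain ⟨D, hD⟩ := Nat.exists_eq_add_of_le (Finset.single_le_sum (fun i _ => Nat.zero_le (L i)) hc)
      rw [hD, add_comm, pow_add, mul_smul, hL c hc, smul_zero]
    have hex : ∀ s, ∃ β : R, ∀ c, ∀ hc : c ∈ T, toLoc ⊥ R 1 c β = Θ.val 1 hc s := fun s => by
      obtain ⟨K, z, h1, h2, -⟩ := Θ.exists_reps s
      obtain ⟨β, hβ⟩ := hR.exists_glue (K 1) (z 1) fun c hc d hd => sub_eq_zero.1 (hzero _ (h2 1 c hc d hd))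
      exact ⟨β, fun c hc => loc_smul_cancel (K := K 1) (by rw [h1 1 c hc hc, ← map_smul, hβ c hc])⟩
    choose β hβ using hex
    exact ⟨{ toFun := β
             map_one' := hinj _ _ fun c hc => by rw [hβ 1 c hc, map_one, map_one]
             map_mul' := fun s t => hinj _ _ fun c hc => by rw [hβ _ c hc, map_mul, map_mul, hβ s c hc, hβ t c hc]
             map_zero' := hinj _ _ fun c hc => by rw [hβ 0 c hc, map_zero, map_zero]
             map_add' := fun s t => hinj _ _ fun c hc => by rw [hβ _ c hc, map_add, map_add, hβ s c hc, hβ t c hc]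
             commutes' := fun a => hinj _ _ fun c hc => by rw [hβ _ c hc, AlgHom.commutes, AlgHom.commutes] },
      fun c hc => AlgHom.ext fun s => hβ s c hc⟩
  obtain ⟨α, hα⟩ := mk hR Θ
  obtain ⟨β, hβ⟩ := mk hR' Ψ
  have hinv : Θ.Inverse Ψ := fun C _ _ _ h => ⟨fun g => (ε C h).symm_apply_apply g, fun g => (ε C h).apply_symm_apply g⟩
  have key : ∀ {R R' : Type u} [CommRing R] [Algebra A R] [CommRing R'] [Algebra A R'] (_ : Glues T R)
      (Θ : PtMap (⊥ : Ideal A) T R R') (Ψ : PtMap (⊥ : Ideal A) T R' R) (_ : Θ.Inverse Ψ)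
      (α : R' →ₐ[A] R) (β : R →ₐ[A] R'), (∀ c, ∀ hc : c ∈ T, (toLoc ⊥ R 1 c).comp α = Θ.val 1 hc) →
      (∀ c, ∀ hc : c ∈ T, (toLoc ⊥ R' 1 c).comp β = Ψ.val 1 hc) → α.comp β = AlgHom.id A R := by
    intro R R' _ _ _ _ hR Θ Ψ hinv α β hα hβ
    refine AlgHom.ext fun r => ?_
    have h1 : ∀ c, ∀ hc : c ∈ T, toLoc ⊥ R 1 c (α (β r)) = toLoc ⊥ R 1 c r := fun c hc => by
      obtain ⟨G, hG⟩ := loc_lift (J := (⊥ : Ideal A)) (R := R') (n := 1) (c := c) (C := Loc ⊥ R 1 c) loc_nil loc_unit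
        (Θ.val 1 hc)
      have h2 : G.comp (Ψ.val 1 hc) = toLoc ⊥ R 1 c := by
        rw [PtMap.val, ← Ψ.natural _ _ G loc_nil' (loc_unit' hc) loc_nil' (loc_unit' hc), hG]
        exact (hinv _ loc_nil' (loc_unit' hc)).1 _
      rw [← AlgHom.comp_apply _ α, hα c hc, ← hG, AlgHom.comp_apply, ← AlgHom.comp_apply (toLoc ⊥ R' 1 c) β,
        hβ c hc, ← AlgHom.comp_apply, h2]
    have : ∀ c, ∃ L : ℕ, c ∈ T → c ^ L • (α (β r) - r) = 0 := fun c => by
      by_cases hc : c ∈ T
      · exact (loc_eq_iff.1 (h1 c hc)).imp fun L hL _ => by simpa using hL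
      · exact ⟨0, fun h => absurd h hc⟩
    choose L hL using this
    refine sub_eq_zero.1 (hR.eq_zero (T.sum L) _ fun c hc => ?_)
    obtain ⟨D, hD⟩ := Nat.exists_eq_add_of_le (Finset.single_le_sum (fun i _ => Nat.zero_le (L i)) hc)
    rw [hD, add_comm, pow_add, mul_smul]
    show c ^ D • c ^ L c • (α (β r) - r) = 0
    rw [hL c hc, smul_zero]
  exact ⟨AlgEquiv.ofAlgHom α β (key hR Θ Ψ hinv α β hα hβ)
    (key hR' Ψ Θ (fun C _ _ h₁ h₂ => ⟨(hinv C h₁ h₂).2, (hinv C h₁ h₂).1⟩) β α hβ hα)⟩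

end Groth.Agent.H18Pur.Pair
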