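import Mathlib
import Groth.Prelude.Def_FEt
import Groth.Agent.H18Pur.Formal.Extend
import Groth.Agent.H18Pur.Saturated
import Groth.Agent.H18Pur.Pair.OpenGlue
import Groth.Agent.H05EGA4.SerreCond

/-!
# Étaleness of a base change of the finite extension
-/

set_option autoImplicit false
set_option backward.isDefEq.respectTransparency false

universe u

open CategoryTheory CategoryTheory.Limits AlgebraicGeometry TensorProduct

namespace Groth.Agent.H18Pur.Pair

open Groth.Agent.H18Pur.Formal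

/-- Depth two along a closed set gives saturation. -/
theorem exists_sat_of_depth {A : Type u} [CommRing A] [IsNoetherianRing A] (I : Ideal A)
    (h : ∀ (p : Ideal A) [p.IsPrime], I ≤ p → (2 : ℕ∞) ≤ LocCoh.depth (Localization.AtPrime p) (Localization.AtPrime p)) :
    ∃ x, Formal.Sat I A x := by
  obtain ⟨x, hxI, hx⟩ := Groth.Agent.H18Pur.Saturated.exists_regular_of_depth I h
  refine ⟨x, hxI, hx, fun K z hz => ?_⟩
  obtain ⟨w, hw⟩ := Groth.Agent.H18Pur.Saturated.sat_of_depth I h hxI hx K z fun y hy => by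
    obtain ⟨w, hw⟩ := hz y hy
    exact ⟨w, hw⟩
  exact ⟨w, hw⟩

/-- A finite algebra of depth two becomes étale after a flat base change over which the cover extends. -/
theorem etale_baseChange {A B A₁ : Type u} [CommRing A] [CommRing B] [CommRing A₁] [Algebra A B] [Algebra A A₁]
    [Module.Flat A A₁] {I : Ideal A} {T : Finset A} (hT : Ideal.span (T : Set A) = I) {x : A} (hx : Formal.Sat I A x)
    {xB : B} (hxB : Formal.Sat (I.map (algebraMap A B)) B xB) {W : Scheme.{u}} (w : W ⟶ Spec (CommRingCat.of A₁))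
    [IsFinite w] [Etale w] {U₁ P : Scheme.{u}} (j : U₁ ⟶ Spec (CommRingCat.of A₁)) [Mono j]
    (hj : ∀ (C : Type u) [CommRing C] [Algebra A₁ C] (c : A), c ∈ T → IsUnit (algebraMap A₁ C (algebraMap A A₁ c)) →
      ∃ l, l ≫ j = Spec.map (CommRingCat.ofHom (algebraMap A₁ C)))
    {κ : P ⟶ Spec (CommRingCat.of (A₁ ⊗[A] B))} {κ' : P ⟶ W} {π : P ⟶ U₁}
    (hB : IsPullback κ π (Spec.map (CommRingCat.ofHom (algebraMap A₁ (A₁ ⊗[A] B)))) j)
    (hW : IsPullback κ' π w j) :
    Algebra.Etale A₁ (A₁ ⊗[A] B) := by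
  classical
  haveI : IsAffine W := isAffine_of_isAffineHom w
  let E := Γ(W, ⊤)
  let ψ : CommRingCat.of A₁ ⟶ E := (Scheme.ΓSpecIso _).inv ≫ w.appTop
  have hψ : w = W.isoSpec.hom ≫ Spec.map ψ := by
    rw [Scheme.isoSpec_hom, Spec.map_comp, ← Scheme.toSpecΓ_naturality_assoc, toSpecΓ_SpecMap_ΓSpecIso_inv,
      Category.comp_id]
  letI : Algebra A₁ E := ψ.hom.toAlgebra
  haveI : Etale (Spec.map ψ) := by
    rw [← MorphismProperty.cancel_left_of_respectsIso @Etale W.isoSpec.hom, ← hψ]; infer_instance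
  haveI : Algebra.Etale A₁ E := RingHom.etale_algebraMap.1 ((HasRingHomProperty.Spec_iff (P := @Etale)).1 ‹_›)
  have hE : IsPullback (κ' ≫ W.isoSpec.hom) π (Spec.map (CommRingCat.ofHom (algebraMap A₁ E))) j :=
    hW.of_iso (Iso.refl _) W.isoSpec (Iso.refl _) (Iso.refl _) (by simp) (by simp)
      (by rw [Iso.refl_hom, Category.comp_id]; exact hψ) (by simp)
  obtain ⟨ε₀, hε₀⟩ := exists_points_equiv hB hE
  let T₁ := T.image (algebraMap A A₁)
  letI : Algebra A E := ((algebraMap A₁ E).comp (algebraMap A A₁)).toAlgebra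
  haveI : IsScalarTower A A₁ E := IsScalarTower.of_algebraMap_eq fun _ => rfl
  haveI : Module.Flat A E := Module.Flat.trans A A₁ E
  have gmap : ∀ {R : Type u} [CommRing R] [Algebra A₁ R] [Algebra A R] [IsScalarTower A A₁ R], Glues T R →
      Glues T₁ R := fun {R} _ _ _ _ h => by
    have hs : ∀ (c : A) (K : ℕ) (r : R), algebraMap A A₁ c ^ K • r = c ^ K • r := fun c K r => by
      rw [← map_pow, algebraMap_smul]
    refine ⟨fun K z hz => ?_, fun K p hp => h.eq_zero K p fun c hc => by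
      rw [← hs]; exact hp _ (Finset.mem_image_of_mem _ hc)⟩
    obtain ⟨a, ha⟩ := h.exists_glue K (fun c => z (algebraMap A A₁ c)) fun c hc d hd => by
      rw [← hs, ← hs]; exact hz _ (Finset.mem_image_of_mem _ hc) _ (Finset.mem_image_of_mem _ hd)
    refine ⟨a, fun b hb => ?_⟩
    obtain ⟨c, hc, rfl⟩ := Finset.mem_image.1 hb
    rw [hs]; exact ha c hc
  have hgE : Glues T₁ E := gmap (glues_of_sat hT (sat_of_flat hT hx E))
  have hgB : Glues T₁ (A₁ ⊗[A] B) := by
    letI : Algebra B (A₁ ⊗[A] B) := Algebra.TensorProduct.rightAlgebra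
    haveI : Module.Flat B (A₁ ⊗[A] B) :=
      Module.Flat.of_linearEquiv (Algebra.TensorProduct.commRight A B A₁).symm.toLinearEquiv
    haveI : IsScalarTower A B (A₁ ⊗[A] B) := IsScalarTower.of_algebraMap_eq fun a => by
      show algebraMap A (A₁ ⊗[A] B) a = (1 : A₁) ⊗ₜ[A] algebraMap A B a
      rw [Algebra.algebraMap_eq_smul_one, Algebra.algebraMap_eq_smul_one, TensorProduct.tmul_smul]
      rfl
    have hT' : Ideal.span ((T.image (algebraMap A B) : Finset B) : Set B) = I.map (algebraMap A B) := by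
      rw [Finset.coe_image, ← Ideal.map_span, hT]
    exact gmap (glues_of_algebra (glues_of_sat hT' (sat_of_flat hT' hxB (A₁ ⊗[A] B))))
  have hz : ∀ (C : Type u) [CommRing C] [Algebra A₁ C], (∃ c ∈ T₁, IsUnit (algebraMap A₁ C c)) →
      ∃ l, l ≫ j = Spec.map (CommRingCat.ofHom (algebraMap A₁ C)) := fun C _ _ ⟨b, hb, hu⟩ => by
    obtain ⟨c, hc, rfl⟩ := Finset.mem_image.1 hb
    exact hj C c hc hu
  obtain ⟨e⟩ := nonempty_algEquiv hgB hgE
    (fun C _ _ h => (pointsEquiv A₁ (A₁ ⊗[A] B) C).trans ((ε₀ _ _ (hz C h)).trans (pointsEquiv A₁ E C).symm))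
    (fun C C' _ _ _ _ G h h' g => by
      refine (pointsEquiv A₁ E C').injective (Subtype.ext ?_)
      simp only [Equiv.trans_apply, Equiv.apply_symm_apply]
      let k := Spec.map (CommRingCat.ofHom G.toRingHom)
      have hk : k ≫ Spec.map (CommRingCat.ofHom (algebraMap A₁ C)) = Spec.map (CommRingCat.ofHom (algebraMap A₁ C')) := by
        rw [← Spec.map_comp, ← CommRingCat.ofHom_comp]
        exact congrArg (fun r => Spec.map (CommRingCat.ofHom r)) G.comp_algebraMap
      have hG : ∀ {R : Type u} [CommRing R] [Algebra A₁ R] (f : R →ₐ[A₁] C),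
          ((pointsEquiv A₁ R C') (G.comp f)).1 = k ≫ ((pointsEquiv A₁ R C) f).1 := fun f => by
        show Spec.map _ = Spec.map _ ≫ Spec.map _
        rw [← Spec.map_comp]
        rfl
      rw [hG]
      erw [Equiv.apply_symm_apply, Equiv.apply_symm_apply]
      exact hε₀ _ _ k _ _ hk (hz C h) (hz C' h') _ _ (hG g))
  exact Algebra.Etale.of_equiv e

end Groth.Agent.H18Pur.Pair
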