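import Mathlib
import Groth.Prelude.Def_FEt
import Groth.Agent.H18Pur.Pair.Affine
import Groth.Agent.H05EGA4.SerreCond

/-!
# The finite extension becomes étale after a flat base change over which the cover extends
-/

set_option autoImplicit false
set_option backward.isDefEq.respectTransparency false

universe u

open CategoryTheory CategoryTheory.Limits AlgebraicGeometry TensorProduct

namespace Groth.Agent.H18Pur.Pair

/-- Depth at a point of an affine open is depth of the localization of the sections. -/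
theorem depth_localization_fromSpec {X : Scheme.{u}} {D : X.Opens} (hD : IsAffineOpen D) [IsNoetherianRing Γ(X, D)]
    (p : PrimeSpectrum Γ(X, D))
    (h : (2 : ℕ∞) ≤ LocCoh.depth (X.presheaf.stalk (hD.fromSpec p)) (X.presheaf.stalk (hD.fromSpec p))) :
    (2 : ℕ∞) ≤ LocCoh.depth (Localization.AtPrime p.asIdeal) (Localization.AtPrime p.asIdeal) := by
  have hmem : hD.fromSpec p ∈ D := by
    rw [← SetLike.mem_coe, ← hD.range_fromSpec]; exact ⟨p, rfl⟩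
  letI := (TopCat.Presheaf.algebra_section_stalk X.presheaf (⟨hD.fromSpec p, hmem⟩ : D))
  haveI : IsLocalization.AtPrime (X.presheaf.stalk (hD.fromSpec p)) p.asIdeal := hD.isLocalization_stalk' p hmem
  haveI : IsNoetherianRing (X.presheaf.stalk (hD.fromSpec p)) :=
    IsLocalization.isNoetherianRing p.asIdeal.primeCompl _ inferInstance
  let e : X.presheaf.stalk (hD.fromSpec p) ≃+* Localization.AtPrime p.asIdeal :=
    (IsLocalization.algEquiv p.asIdeal.primeCompl _ _).toRingEquiv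
  rwa [← H05EGA4.depth_eq_of_ringEquiv e]

/-- The pullback of `π` to an affine open of the flat `X₁` is étale. -/
theorem etale_pullback_fromSpec {X X₁ Y W₀ W₁ P₁ : Scheme.{u}} [IsLocallyNoetherian X] (U : X.Opens)
    (hU : ∀ x : X, x ∉ U → (2 : ℕ∞) ≤ LocCoh.depth (X.presheaf.stalk x) (X.presheaf.stalk x))
    (f : X₁ ⟶ X) [Flat f] (π : Y ⟶ X) [IsFinite π]
    (hY : ∀ y : Y, π y ∉ U → (2 : ℕ∞) ≤ LocCoh.depth (Y.presheaf.stalk y) (Y.presheaf.stalk y))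
    {g₀ : W₀ ⟶ U} {a₀ : W₀ ⟶ Y} (h₀ : IsPullback a₀ g₀ π U.ι)
    (g₁ : W₁ ⟶ X₁) [IsFinite g₁] [Etale g₁] {a₁ : P₁ ⟶ W₁} {s₁ : P₁ ⟶ ↑(f ⁻¹ᵁ U)} {b₁ : P₁ ⟶ W₀}
    (h₁ : IsPullback a₁ s₁ g₁ (f ⁻¹ᵁ U).ι) (h₁' : IsPullback b₁ s₁ g₀ (f ∣_ U))
    {D : X.Opens} (hD : IsAffineOpen D) {E : X₁.Opens} (hE : IsAffineOpen E) (he : E ≤ f ⁻¹ᵁ D) :
    Etale (pullback.snd π (hE.fromSpec ≫ f)) := by
  classical
  let A := Γ(X, D)
  let A₁ := Γ(X₁, E)
  have hDY : IsAffineOpen (π ⁻¹ᵁ D) := hD.preimage π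
  let B := Γ(Y, π ⁻¹ᵁ D)
  haveI : IsLocallyNoetherian Y := LocallyOfFiniteType.isLocallyNoetherian π
  haveI : IsNoetherianRing Γ(X, D) := IsLocallyNoetherian.component_noetherian ⟨D, hD⟩
  haveI : IsNoetherianRing Γ(Y, π ⁻¹ᵁ D) := IsLocallyNoetherian.component_noetherian ⟨_, hDY⟩
  letI : Algebra A B := (π.appLE D (π ⁻¹ᵁ D) le_rfl).hom.toAlgebra
  letI : Algebra A A₁ := (f.appLE D E he).hom.toAlgebra
  haveI : Module.Flat A A₁ := RingHom.flat_algebraMap_iff.1 (HasRingHomProperty.appLE @Flat f ‹_› ⟨D, hD⟩ ⟨E, hE⟩ he)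
  let φA := Spec.map (CommRingCat.ofHom (algebraMap A A₁))
  let φB := Spec.map (CommRingCat.ofHom (algebraMap A B))
  have eA : φA ≫ hD.fromSpec = hE.fromSpec ≫ f := hD.SpecMap_appLE_fromSpec f hE he
  have eB : φB ≫ hD.fromSpec = hDY.fromSpec ≫ π := hD.SpecMap_appLE_fromSpec π hDY le_rfl
  have sq₂ : IsPullback hDY.fromSpec φB π hD.fromSpec :=
    (IsOpenImmersion.isPullback _ _ _ _ eB.symm (by
      rw [hD.opensRange_fromSpec, hDY.opensRange_fromSpec])).flip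
  have sq₁ := (isPullback_SpecMap_of_isPushout _ _ _ _ (CommRingCat.isPushout_tensorProduct A A₁ B))
  let b := Spec.map (CommRingCat.ofHom (algebraMap A₁ (A₁ ⊗[A] B)))
  let g : Spec (CommRingCat.of A₁) ⟶ X := hE.fromSpec ≫ f
  have sq : IsPullback (Spec.map (CommRingCat.ofHom
      (Algebra.TensorProduct.includeRight (R := A) (A := A₁) (B := B)).toRingHom) ≫ hDY.fromSpec) b π g := by
    have := sq₁.flip.paste_horiz sq₂
    rwa [eA] at this
  suffices Algebra.Etale A₁ (A₁ ⊗[A] B) by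
    haveI : Etale b := (HasRingHomProperty.Spec_iff (P := @Etale)).2 (RingHom.etale_algebraMap.2 this)
    exact (MorphismProperty.cancel_left_of_respectsIso @Etale sq.isoPullback.hom (pullback.snd π g)).1
      (by rw [sq.isoPullback_hom_snd]; infer_instance)
  -- the closed set `D \ U`
  let I : Ideal A := PrimeSpectrum.vanishingIdeal (hD.fromSpec ⁻¹' (U : Set X)ᶜ)
  have hI : PrimeSpectrum.zeroLocus (I : Set A) = hD.fromSpec ⁻¹' (U : Set X)ᶜ := by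
    rw [PrimeSpectrum.zeroLocus_vanishingIdeal_eq_closure]
    exact (U.2.isClosed_compl.preimage hD.fromSpec.continuous).closure_eq
  have hIp : ∀ p : PrimeSpectrum A, I ≤ p.asIdeal ↔ hD.fromSpec p ∉ U := fun p => Set.ext_iff.1 hI p
  obtain ⟨T, hT⟩ := (IsNoetherian.noetherian I : I.FG)
  obtain ⟨x, hx⟩ := exists_sat_of_depth I fun p _ hp =>
    depth_localization_fromSpec hD ⟨p, ‹_›⟩ (hU _ ((hIp ⟨p, ‹_›⟩).1 hp))
  obtain ⟨xB, hxB⟩ := exists_sat_of_depth (I.map (algebraMap A B)) fun q _ hq => by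
    refine depth_localization_fromSpec hDY ⟨q, ‹_›⟩ (hY _ ?_)
    have h := (hIp (φB ⟨q, ‹_›⟩)).1 (Ideal.map_le_iff_le_comap.1 hq)
    change (φB ≫ hD.fromSpec) ⟨q, ‹_›⟩ ∉ U at h
    rwa [eB] at h
  -- the cover over `U₁`
  let k : pullback g U.ι ⟶ (U : Scheme.{u}) := pullback.snd g U.ι
  let j : pullback g U.ι ⟶ Spec (CommRingCat.of A₁) := pullback.fst g U.ι
  have hjk : j ≫ g = k ≫ U.ι := pullback.condition
  let k₁ : pullback g U.ι ⟶ ↑(f ⁻¹ᵁ U) := IsOpenImmersion.lift (f ⁻¹ᵁ U).ι (j ≫ hE.fromSpec) (by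
    rintro _ ⟨z, rfl⟩
    rw [Scheme.Opens.range_ι]
    show f ((j ≫ hE.fromSpec) z) ∈ U
    rw [← Scheme.Hom.comp_apply, Category.assoc, hjk, Scheme.Hom.comp_apply]
    exact (k z).2)
  have hk₁ : k₁ ≫ (f ⁻¹ᵁ U).ι = j ≫ hE.fromSpec := IsOpenImmersion.lift_fac _ _ _
  have hk₁' : k₁ ≫ (f ∣_ U) = k := by
    rw [← cancel_mono U.ι, Category.assoc, morphismRestrict_ι, reassoc_of% hk₁, ← hjk]
  have hP := IsPullback.of_hasPullback g₀ k
  have hPY := hP.paste_horiz h₀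
  rw [← hjk] at hPY
  let κ := sq.lift _ (pullback.snd g₀ k ≫ j) (by rw [hPY.w, Category.assoc])
  have hB : IsPullback κ (pullback.snd g₀ k) b j :=
    IsPullback.of_right (by rw [sq.lift_fst]; exact hPY) (sq.lift_snd _ _ _) sq
  let a' := h₁'.lift (pullback.fst g₀ k) (pullback.snd g₀ k ≫ k₁) (by rw [Category.assoc, hk₁', pullback.condition])
  have hP₁ : IsPullback a' (pullback.snd g₀ k) s₁ k₁ :=
    IsPullback.of_right (by rw [h₁'.lift_fst, hk₁']; exact hP) (h₁'.lift_snd _ _ _) h₁'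
  have hPW := hP₁.paste_horiz h₁
  rw [hk₁] at hPW
  let sw := IsPullback.of_hasPullback g₁ hE.fromSpec
  let κ' := sw.lift _ (pullback.snd g₀ k ≫ j) (by rw [hPW.w, Category.assoc])
  have hW : IsPullback κ' (pullback.snd g₀ k) (pullback.snd g₁ hE.fromSpec) j :=
    IsPullback.of_right (by rw [sw.lift_fst]; exact hPW) (sw.lift_snd _ _ _) sw
  refine etale_baseChange hT hx hxB (pullback.snd g₁ hE.fromSpec) j (fun C _ _ c hc hu => ?_) hB hW
  let z := Spec.map (CommRingCat.ofHom (algebraMap A₁ C))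
  have hz : Set.range (z ≫ g) ⊆ Set.range U.ι := by
    rintro _ ⟨q, rfl⟩
    rw [Scheme.Opens.range_ι]
    show (z ≫ g) q ∈ U
    rw [show z ≫ g = (z ≫ φA) ≫ hD.fromSpec by rw [Category.assoc, eA], Scheme.Hom.comp_apply]
    by_contra hn
    exact q.isPrime.ne_top (Ideal.eq_top_of_isUnit_mem _ ((hIp _).2 hn (hT ▸ Ideal.subset_span hc)) hu)
  exact ⟨pullback.lift z (IsOpenImmersion.lift U.ι (z ≫ g) hz) (by rw [IsOpenImmersion.lift_fac]), pullback.lift_fst _ _ _⟩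

/-- The pullback of `π` along the flat `f` is étale. -/
theorem etale_pullback_snd {X X₁ Y W₀ W₁ P₁ : Scheme.{u}} [IsLocallyNoetherian X] (U : X.Opens)
    (hU : ∀ x : X, x ∉ U → (2 : ℕ∞) ≤ LocCoh.depth (X.presheaf.stalk x) (X.presheaf.stalk x))
    (f : X₁ ⟶ X) [Flat f] (π : Y ⟶ X) [IsFinite π]
    (hY : ∀ y : Y, π y ∉ U → (2 : ℕ∞) ≤ LocCoh.depth (Y.presheaf.stalk y) (Y.presheaf.stalk y))
    {g₀ : W₀ ⟶ U} {a₀ : W₀ ⟶ Y} (h₀ : IsPullback a₀ g₀ π U.ι)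
    (g₁ : W₁ ⟶ X₁) [IsFinite g₁] [Etale g₁] {a₁ : P₁ ⟶ W₁} {s₁ : P₁ ⟶ ↑(f ⁻¹ᵁ U)} {b₁ : P₁ ⟶ W₀}
    (h₁ : IsPullback a₁ s₁ g₁ (f ⁻¹ᵁ U).ι) (h₁' : IsPullback b₁ s₁ g₀ (f ∣_ U)) :
    Etale (pullback.snd π f) := by
  have hx : ∀ x₁ : X₁, ∃ (D : X.Opens) (E : X₁.Opens), IsAffineOpen D ∧ IsAffineOpen E ∧ E ≤ f ⁻¹ᵁ D ∧ x₁ ∈ E := by
    intro x₁
    obtain ⟨D, hD, hxD, -⟩ := exists_isAffineOpen_mem_and_subset (U := (⊤ : X.Opens)) (Set.mem_univ (f x₁))
    obtain ⟨E, hE, hxE, hED⟩ := exists_isAffineOpen_mem_and_subset (U := f ⁻¹ᵁ D) (x := x₁) hxD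
    exact ⟨D, E, hD, hE, hED, hxE⟩
  choose D E hD hE he hmem using hx
  let 𝒰 : X₁.OpenCover := AlgebraicGeometry.Scheme.Cover.mkOfCovers X₁ (fun i => Spec Γ(X₁, E i))
    (fun i => (hE i).fromSpec) (fun x => ⟨x, (hE x).primeIdealOf ⟨x, hmem x⟩, (hE x).fromSpec_primeIdealOf _⟩)
    (fun i => inferInstance)
  refine IsZariskiLocalAtTarget.of_openCover 𝒰 fun i => ?_
  exact (MorphismProperty.cancel_left_of_respectsIso @Etale (pullbackLeftPullbackSndIso π f (hE i).fromSpec).inv _).1 (by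
    show Etale ((pullbackLeftPullbackSndIso π f (hE i).fromSpec).inv ≫ pullback.snd (pullback.snd π f) (hE i).fromSpec)
    rw [pullbackLeftPullbackSndIso_inv_snd_snd]
    exact etale_pullback_fromSpec U hU f π hY h₀ g₁ h₁ h₁' (hD i) (hE i) (he i))

end Groth.Agent.H18Pur.Pair
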