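import Mathlib
import Groth.Prelude.Def_SGA2
import Groth.Agent.H18Pur.Pair.Local
import Groth.Agent.H18Pur.S2Extension
import Groth.Agent.H18Et.FEtDepth
import Groth.Agent.H18Et.FEtLimit

/-!
# Purity of a pair descends along faithfully flat quasi-compact morphisms
-/

set_option autoImplicit false
set_option backward.isDefEq.respectTransparency false

universe u

open CategoryTheory CategoryTheory.Limits AlgebraicGeometry

namespace Groth.Agent.H18Pur.Pair

theorem dense_of_depth {X : Scheme.{u}} [IsLocallyNoetherian X] (U : X.Opens)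
    (hU : ∀ x : X, x ∉ U → (2 : ℕ∞) ≤ LocCoh.depth (X.presheaf.stalk x) (X.presheaf.stalk x)) :
    Dense (U : Set X) := fun x => by
  by_cases hx : x ∈ (U : Set X)
  · exact subset_closure hx
  · refine mem_closure_iff.2 fun W hW hxW => ?_
    obtain ⟨V, -, -, hVW, -, y, hyV, hyU⟩ :=
      Groth.Agent.H4Depth.exists_basis_of_depth X U hU x hx W hW hxW
    exact ⟨y, hVW hyV, hyU⟩

/-- An extension over `X₁` gives an extension over `X`. -/
theorem essSurj_of_descent {X X₁ : Scheme.{u}} [IsLocallyNoetherian X] (U : X.Opens)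
    (hU : ∀ x : X, x ∉ U → (2 : ℕ∞) ≤ LocCoh.depth (X.presheaf.stalk x) (X.presheaf.stalk x))
    (f : X₁ ⟶ X) [Flat f] [Surjective f] [QuasiCompact f] (h : (FEt.restrict (f ⁻¹ᵁ U).ι).EssSurj) :
    (FEt.restrict U.ι).EssSurj where
  mem_essImage W₀ := by
    haveI : IsFinite W₀.hom := W₀.prop.1
    haveI : Etale W₀.hom := W₀.prop.2
    obtain ⟨Y, π, e, hπ, he, hY⟩ := exists_S2_extension U hU W₀.hom
    obtain ⟨W₁, ⟨θ⟩⟩ := h.mem_essImage ((FEt.restrict (f ∣_ U)).obj W₀)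
    haveI : IsFinite W₁.hom := W₁.prop.1
    haveI : Etale W₁.hom := W₁.prop.2
    let θ' := (MorphismProperty.Over.forget _ _ _ ⋙ Over.forget _).mapIso θ
    have hθ : θ'.hom ≫ pullback.snd W₀.hom (f ∣_ U) = pullback.snd W₁.hom (f ⁻¹ᵁ U).ι :=
      MorphismProperty.Over.w θ.hom
    have h₀ : IsPullback (e.inv ≫ pullback.fst π U.ι) W₀.hom π U.ι :=
      (IsPullback.of_hasPullback π U.ι).of_iso e (Iso.refl _) (Iso.refl _) (Iso.refl _)
        (by simp) (by rw [Iso.refl_hom, Category.comp_id]; exact he.symm) (by simp) (by simp)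
    have h₁' : IsPullback (θ'.hom ≫ pullback.fst W₀.hom (f ∣_ U)) (pullback.snd W₁.hom (f ⁻¹ᵁ U).ι) W₀.hom (f ∣_ U) :=
      (IsPullback.of_hasPullback W₀.hom (f ∣_ U)).of_iso θ'.symm (Iso.refl _) (Iso.refl _) (Iso.refl _)
        (by simp) (by rw [Iso.refl_hom, Category.comp_id, ← hθ]; exact (Iso.inv_hom_id_assoc _ _).symm) (by simp) (by simp)
    have het : Etale (pullback.snd π f) := etale_pullback_snd U hU f π hY h₀ W₁.hom
      (IsPullback.of_hasPullback W₁.hom (f ⁻¹ᵁ U).ι) h₁'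
    have : Etale π := MorphismProperty.of_pullback_snd_of_descendsAlong
      (P := @Etale) (Q := @Surjective ⊓ @Flat ⊓ @QuasiCompact) (f := π) (g := f) ⟨⟨‹_›, ‹_›⟩, ‹_›⟩ het
    exact ⟨MorphismProperty.Over.mk ⊤ π ⟨hπ, this⟩, ⟨MorphismProperty.Over.isoMk e he⟩⟩

/-- Restriction along the identity. -/
noncomputable def restrictId (X : Scheme.{u}) : FEt.restrict (𝟙 X) ≅ 𝟭 (FEt.Cat X) :=
  NatIso.ofComponents (fun A => MorphismProperty.Over.isoMk (asIso (pullback.fst A.hom (𝟙 X)))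
      (by rw [asIso_hom]; exact pullback.condition.trans (Category.comp_id _)))
    (fun {A B} h => MorphismProperty.Over.Hom.ext (pullback.lift_fst _ _ _))

/-- Base change along open immersions with the same range. -/
theorem essSurj_of_range_eq {A B S : Scheme.{u}} (i : A ⟶ S) (j : B ⟶ S) [IsOpenImmersion i] [IsOpenImmersion j]
    (hr : Set.range i = Set.range j) (h : (FEt.restrict i).EssSurj) : (FEt.restrict j).EssSurj where
  mem_essImage W := by
    let σ := IsOpenImmersion.isoOfRangeEq i j hr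
    have hσ : σ.inv ≫ i = j := IsOpenImmersion.isoOfRangeEq_inv_fac _ _ _
    obtain ⟨Z, ⟨e⟩⟩ := h.mem_essImage ((FEt.restrict σ.hom).obj W)
    exact ⟨Z, ⟨(H18Et.FEtLimit.restrictCompIso σ.inv i j hσ Z).symm ≪≫ (FEt.restrict σ.inv).mapIso e ≪≫
      H18Et.FEtLimit.restrictCompIso σ.inv σ.hom (𝟙 _) σ.inv_hom_id W ≪≫
      (restrictId _).app W⟩⟩

/-- Base change along an open immersion isomorphic to `U.ι` is fully faithful. -/
theorem full_faithful_of_range_eq {B S : Scheme.{u}} [IsLocallyNoetherian S] (U : S.Opens)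
    (hU : ∀ x : S, x ∉ U → (2 : ℕ∞) ≤ LocCoh.depth (S.presheaf.stalk x) (S.presheaf.stalk x))
    (j : B ⟶ S) [IsOpenImmersion j] (hr : Set.range U.ι = Set.range j) :
    (FEt.restrict j).Full ∧ (FEt.restrict j).Faithful := by
  let σ := IsOpenImmersion.isoOfRangeEq U.ι j hr
  have hσ : σ.hom ≫ j = U.ι := IsOpenImmersion.isoOfRangeEq_hom_fac _ _ _
  obtain ⟨_, _⟩ := H18Et.FEtDepth.full_faithful U (H18Et.FEtDepth.meetsClopens_of_dense U (dense_of_depth U hU)) hU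
  have mk : ∀ {P Q : Scheme.{u}} (a : P ⟶ Q) (b : Q ⟶ P), b ≫ a = 𝟙 Q → (FEt.restrict a).Faithful :=
    fun {P Q} a b hab => Functor.Faithful.of_comp_iso (H := 𝟭 (FEt.Cat Q)) (G := FEt.restrict b)
      ((MorphismProperty.Over.pullbackComp (P := FEt.prop.{u}) (Q := ⊤) b a).symm ≪≫
        MorphismProperty.Over.pullbackCongr hab ≪≫ restrictId Q)
  haveI : (FEt.restrict σ.hom).Faithful := mk σ.hom σ.inv σ.inv_hom_id
  let iso : FEt.restrict j ⋙ FEt.restrict σ.hom ≅ FEt.restrict U.ι :=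
    (MorphismProperty.Over.pullbackComp (P := FEt.prop.{u}) (Q := ⊤) σ.hom j).symm ≪≫
      MorphismProperty.Over.pullbackCongr hσ
  haveI : (FEt.restrict j ⋙ FEt.restrict σ.hom).Full := Functor.Full.of_iso iso.symm
  exact ⟨Functor.Full.of_comp_faithful (FEt.restrict j) (FEt.restrict σ.hom), Functor.Faithful.of_comp_iso iso⟩

/-- Purity of a pair descends. -/
theorem isPurePair_of_descent {X X₁ : Scheme.{u}} [IsLocallyNoetherian X] (U : X.Opens)
    (hU : ∀ x : X, x ∉ U → (2 : ℕ∞) ≤ LocCoh.depth (X.presheaf.stalk x) (X.presheaf.stalk x))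
    (f : X₁ ⟶ X) [Flat f] [Surjective f] [QuasiCompact f] (h : SGA2.IsPurePair X₁ (f ⁻¹ᵁ U)) :
    SGA2.IsPurePair X U := fun V => by
  let U' : (V : Scheme.{u}).Opens := V.ι ⁻¹ᵁ U
  have hU' : ∀ x : (V : Scheme.{u}), x ∉ U' →
      (2 : ℕ∞) ≤ LocCoh.depth ((V : Scheme.{u}).presheaf.stalk x) ((V : Scheme.{u}).presheaf.stalk x) := fun x hx => by
    rw [← H05EGA4.depth_eq_of_ringEquiv (asIso (V.ι.stalkMap x)).commRingCatIsoToRingEquiv]
    exact hU _ hx
  have range_homOfLE : ∀ {S : Scheme.{u}} (A B : S.Opens),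
      Set.range (B.ι ⁻¹ᵁ A).ι = Set.range (S.homOfLE (inf_le_left : B ⊓ A ≤ B)) := fun {S} A B => by
    rw [Scheme.Opens.range_ι]
    refine Set.ext fun x => ⟨fun hx => ⟨⟨B.ι x, x.2, hx⟩, Subtype.ext ?_⟩, ?_⟩
    · show B.ι (S.homOfLE _ _) = B.ι x
      rw [← Scheme.Hom.comp_apply, Scheme.homOfLE_ι]
      rfl
    · rintro ⟨z, rfl⟩
      show B.ι (S.homOfLE _ z) ∈ A
      rw [← Scheme.Hom.comp_apply, Scheme.homOfLE_ι]
      exact z.2.2
  obtain ⟨hfull, hfaith⟩ := full_faithful_of_range_eq U' hU' (X.homOfLE (inf_le_left : V ⊓ U ≤ V)) (range_homOfLE U V)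
  haveI : Flat (f ∣_ V) := IsZariskiLocalAtTarget.restrict ‹_› _
  haveI : QuasiCompact (f ∣_ V) := IsZariskiLocalAtTarget.restrict ‹_› _
  haveI : Surjective (f ∣_ V) := IsZariskiLocalAtTarget.restrict ‹_› _
  have hpre : (f ∣_ V) ⁻¹ᵁ U' = (f ⁻¹ᵁ V).ι ⁻¹ᵁ (f ⁻¹ᵁ U) := by
    show _ = _
    rw [← Scheme.Hom.comp_preimage, ← Scheme.Hom.comp_preimage, morphismRestrict_ι]
  haveI := h (f ⁻¹ᵁ V)
  have h1 : (FEt.restrict ((f ∣_ V) ⁻¹ᵁ U').ι).EssSurj :=
    essSurj_of_range_eq (X₁.homOfLE (inf_le_left : f ⁻¹ᵁ V ⊓ f ⁻¹ᵁ U ≤ f ⁻¹ᵁ V)) _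
      (by rw [hpre]; exact (range_homOfLE (f ⁻¹ᵁ U) (f ⁻¹ᵁ V)).symm) inferInstance
  have hess := essSurj_of_range_eq U'.ι (X.homOfLE (inf_le_left : V ⊓ U ≤ V)) (range_homOfLE U V)
    (essSurj_of_descent U' hU' (f ∣_ V) h1)
  exact { full := hfull, faithful := hfaith, essSurj := hess }

end Groth.Agent.H18Pur.Pair
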